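import Groth.Agent.DimMaps.Basic
import Groth.Agent.FibreDimVar.Basic
import Groth.Agent.DimFormulaIrr.Dominant
import Groth.Agent.EquidimFlat.Basic
import Groth.Agent.AlgSpLib.LocP

/-!
# Dimension comparisons along finite, quasi-finite, open and closed morphisms
-/

set_option autoImplicit false

universe u

open CategoryTheory AlgebraicGeometry TopologicalSpace Topology

namespace Groth.Agent.DimMaps

variable {X Y : Scheme.{u}} (f : X ⟶ Y)

theorem dim_ge_of_surjective (hs : Function.Surjective f.base) (h : IsOpenMap f.base ∨ IsClosedMap f.base) :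
    topologicalKrullDim Y ≤ topologicalKrullDim X := by
  rcases h with h | h
  · exact dim_le_of_surjective_generalizing f.base hs (generalizing_of_isOpenMap f h)
  · exact dim_le_of_surjective_specializing f.base hs h.specializingMap

theorem fibre_incomparable [LocallyQuasiFinite f] (a b : X) (hab : a ⤳ b) (he : f.base a = f.base b) : a = b :=
  incomparable_of_isDiscrete f.base (fun y => f.isDiscrete_preimage_singleton y) a b hab he

theorem dim_le_of_quasiFinite [LocallyQuasiFinite f] {Z : Set Y} (hZ : IsClosed Z)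
    (hsub : Set.range f.base ⊆ Z) : topologicalKrullDim X ≤ topologicalKrullDim Z := by
  haveI := quasiSober_of_isClosed hZ
  exact dim_le_of_incomparable (fun x => (⟨f.base x, hsub ⟨x, rfl⟩⟩ : Z)) (f.continuous.subtype_mk _)
    fun a b hab he => fibre_incomparable f a b hab (congrArg Subtype.val he)

theorem dim_finite [IsFinite f] :
    topologicalKrullDim X = topologicalKrullDim (Set.range f.base) ∧
      (Function.Surjective f.base → topologicalKrullDim X = topologicalKrullDim Y) := by
  have hcm : IsClosedMap f.base := f.isClosedMap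
  have hc : IsClosed (Set.range f.base) := hcm.isClosed_range
  haveI := quasiSober_of_isClosed hc
  have h : topologicalKrullDim X = topologicalKrullDim (Set.range f.base) := by
    refine le_antisymm (dim_le_of_quasiFinite f hc subset_rfl) ?_
    refine dim_le_of_surjective_specializing (Set.rangeFactorization f.base) Set.rangeFactorization_surjective
      (IsClosedMap.specializingMap fun O hO => ?_)
    have : Set.rangeFactorization f.base '' O = Subtype.val ⁻¹' (f.base '' O) := by
      ext ⟨y, hy⟩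
      simp [Set.rangeFactorization, Subtype.ext_iff]
    rw [this]
    exact (hcm O hO).preimage continuous_subtype_val
  refine ⟨h, fun hs => h.trans ?_⟩
  rw [hs.range_eq, FibreDim.dim_homeo (Homeomorph.Set.univ _)]

theorem dim_le_add_of_fibre [IsLocallyNoetherian Y] [LocallyOfFiniteType f] (n : ℕ)
    (h : ∀ y : Y, topologicalKrullDim (f.fiber y) ≤ n) :
    topologicalKrullDim X ≤ topologicalKrullDim Y + n := by
  refine DimFormulaIrr.dim_le_add f n fun ξ _ => ?_
  obtain ⟨m, hm, hm'⟩ := DimFormulaIrr.exists_trdeg_fibre f _ (f.asFiber ξ) ξ (f.fiberι_asFiber ξ)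
  have : (m : WithBot ℕ∞) ≤ n := hm' ▸ (FibreDim.dim_mono (Set.subset_univ _)).trans
    ((FibreDim.dim_homeo (Homeomorph.Set.univ _)).trans_le (h _))
  rw [hm]
  exact_mod_cast (Nat.cast_le.mp this)

theorem locClosed_closure [IsLocallyNoetherian X] (x : X) (hx : IsLocallyClosed ({x} : Set X)) :
    topologicalKrullDim (closure ({x} : Set X)) ≤ 1 ∧
      ∀ y ∈ closure ({x} : Set X), y ≠ x → IsClosed ({y} : Set X) := by
  classical
  obtain ⟨O, Z, hO, hZ, hOZ⟩ := hx
  have hxO : x ∈ O := (hOZ.le rfl).1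
  have key : ∀ y z : X, x ⤳ y → y ⤳ z → y ≠ x → z = y := by
    intro y z hxy hyz hne
    by_contra hzy
    obtain ⟨_, ⟨W, hW, rfl⟩, hzW, -⟩ :=
      X.isBasis_affineOpens.exists_subset_of_mem_open (Set.mem_univ z) isOpen_univ
    replace hW : IsAffineOpen W := hW
    haveI := hW.isOpenImmersion_fromSpec
    have hyW : y ∈ W := hyz.mem_open W.2 hzW
    have hxW : x ∈ W := hxy.mem_open W.2 hyW
    haveI : IsNoetherianRing Γ(X, W) := IsLocallyNoetherian.component_noetherian ⟨W, hW⟩
    let P : (w : X) → w ∈ W → PrimeSpectrum Γ(X, W) := fun w hw => hW.primeIdealOf ⟨w, hw⟩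
    have hP : ∀ (w : X) (hw : w ∈ W), hW.fromSpec (P w hw) = w := fun w hw => hW.fromSpec_primeIdealOf ⟨w, hw⟩
    have hle : ∀ (a b : X) (ha : a ∈ W) (hb : b ∈ W), a ⤳ b → (P a ha).asIdeal ≤ (P b hb).asIdeal :=
      fun a b ha hb h => (PrimeSpectrum.le_iff_specializes _ _).mpr
        (hW.fromSpec.isOpenEmbedding.isInducing.specializes_iff.mp ((hP a ha).symm ▸ (hP b hb).symm ▸ h : _ ⤳ _))
    have hinj : ∀ (a b : X) (ha : a ∈ W) (hb : b ∈ W), (P a ha).asIdeal = (P b hb).asIdeal → a = b :=
      fun a b ha hb h => (hP a ha).symm.trans ((congrArg hW.fromSpec (PrimeSpectrum.ext h)).trans (hP b hb))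
    let p₀ := (P x hxW).asIdeal
    let p₁ := (P y hyW).asIdeal
    let p₂ := (P z hzW).asIdeal
    have h01 : p₀ < p₁ := lt_of_le_of_ne (hle _ _ hxW hyW hxy) fun e => hne (hinj _ _ hxW hyW e).symm
    have h12 : p₁ < p₂ := lt_of_le_of_ne (hle _ _ hyW hzW hyz) fun e => hzy (hinj _ _ hyW hzW e).symm
    let A := Γ(X, W) ⧸ p₀
    let π := Ideal.Quotient.mk p₀
    obtain ⟨f, hf0, hf⟩ : ∃ f : A, f ≠ 0 ∧ ∀ q : Ideal A, q.IsPrime → q ≠ ⊥ → f ∈ q := by
      obtain ⟨_, ⟨g, rfl⟩, hxg, hgO⟩ := PrimeSpectrum.isTopologicalBasis_basic_opens.exists_subset_of_mem_open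
        (show (P x hxW) ∈ hW.fromSpec.base ⁻¹' O by
          show hW.fromSpec (P x hxW) ∈ O
          rw [hP]; exact hxO) (hO.preimage hW.fromSpec.continuous)
      refine ⟨π g, fun h => hxg (Ideal.Quotient.eq_zero_iff_mem.mp h), fun q hq hq0 => ?_⟩
      by_contra hgq
      let Q : PrimeSpectrum Γ(X, W) := ⟨q.comap π, inferInstance⟩
      have hQO : hW.fromSpec Q ∈ O := hgO (show Q ∈ PrimeSpectrum.basicOpen g from hgq)
      have hpQ : p₀ ≤ Q.asIdeal := fun a ha => by
        show π a ∈ q
        rw [Ideal.Quotient.eq_zero_iff_mem.mpr ha]; exact zero_mem _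
      have hxQ : x ⤳ hW.fromSpec Q := by
        rw [← hP x hxW]
        exact ((PrimeSpectrum.le_iff_specializes _ _).mp hpQ).map hW.fromSpec.continuous
      have hQx : hW.fromSpec Q = hW.fromSpec (P x hxW) := by
        rw [hP]
        exact hOZ.ge ⟨hQO, hxQ.mem_closed hZ (hOZ.le rfl).2⟩
      have hQ : Q = P x hxW := hW.fromSpec.isOpenEmbedding.injective hQx
      refine hq0 (eq_bot_iff.mpr fun a ha => ?_)
      obtain ⟨a, rfl⟩ := Ideal.Quotient.mk_surjective a
      exact Ideal.Quotient.eq_zero_iff_mem.mpr (show a ∈ (P x hxW).asIdeal from hQ ▸ (show a ∈ Q.asIdeal from ha))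
    haveI : IsDomain A := Ideal.Quotient.isDomain p₀
    have hπ : Function.Surjective π := Ideal.Quotient.mk_surjective
    have hk : ∀ p : Ideal Γ(X, W), p₀ ≤ p → (p.map π).comap π = p := fun p hp => by
      rw [Ideal.comap_map_of_surjective π hπ, ← RingHom.ker_eq_comap_bot, Ideal.mk_ker, sup_eq_left.mpr hp]
    let q₁ := p₁.map π
    let q₂ := p₂.map π
    haveI : q₁.IsPrime := Ideal.map_isPrime_of_surjective hπ (by rw [Ideal.mk_ker]; exact h01.le)
    haveI : q₂.IsPrime := Ideal.map_isPrime_of_surjective hπ (by rw [Ideal.mk_ker]; exact (h01.trans h12).le)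
    have hq₁ : q₁ ≠ ⊥ := fun e => h01.ne (by
      have := hk p₁ h01.le
      rw [show p₁.map π = ⊥ from e, ← RingHom.ker_eq_comap_bot, Ideal.mk_ker] at this
      exact this)
    have hq12 : q₁ < q₂ := lt_of_le_of_ne (Ideal.map_mono h12.le) fun e => h12.ne (by
      rw [← hk p₁ h01.le, ← hk p₂ (h01.trans h12).le]
      exact congrArg (Ideal.comap π) e)
    let S := (Ideal.finite_minimalPrimes_of_isNoetherianRing (I := Ideal.span {f})).toFinset
    have hSprime : ∀ i ∈ S, i.IsPrime := fun i hi => ((Set.Finite.mem_toFinset _).mp hi).1.1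
    have hn2 : ¬ ((q₂ : Set A) ⊆ ⋃ i ∈ (S : Set (Ideal A)), (i : Set A)) := by
      intro hsub
      rw [Ideal.subset_union_prime (f := fun i => i) ⊥ ⊥ (fun i hi _ _ => hSprime i hi)] at hsub
      obtain ⟨i, hi, hq2i⟩ := hsub
      have himin := (Set.Finite.mem_toFinset _).mp hi
      have hfq1 : Ideal.span {f} ≤ q₁ := (Ideal.span_singleton_le_iff_mem _).mpr (hf q₁ inferInstance hq₁)
      exact hq12.not_ge (hq2i.trans (himin.2 ⟨inferInstance, hfq1⟩ (hq12.le.trans hq2i)))
    obtain ⟨g, hg2, hg⟩ := Set.not_subset.mp hn2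
    obtain ⟨q, hqmin, hqle⟩ := Ideal.exists_minimalPrimes_le ((Ideal.span_singleton_le_iff_mem q₂).mpr hg2)
    have hgq : g ∈ q := hqmin.1.2 (Ideal.mem_span_singleton_self g)
    have hq0 : q ≠ ⊥ := fun e => by
      rw [e, Ideal.mem_bot] at hgq
      refine hg ?_
      obtain ⟨i, hi, hile⟩ := Ideal.exists_minimalPrimes_le
        ((Ideal.span_singleton_le_iff_mem q₁).mpr (hf q₁ inferInstance hq₁))
      exact Set.mem_iUnion₂.mpr ⟨i, Finset.mem_coe.mpr ((Set.Finite.mem_toFinset _).mpr hi), hgq ▸ i.zero_mem⟩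
    haveI := hqmin.1.1
    obtain ⟨i, hi, hiq⟩ := Ideal.exists_minimalPrimes_le ((Ideal.span_singleton_le_iff_mem q).mpr (hf q inferInstance hq0))
    haveI := hi.1.1
    have hi0 : i ≠ ⊥ := fun e => hf0 (by
      have := hi.1.2 (Ideal.mem_span_singleton_self f)
      rwa [e, Ideal.mem_bot] at this)
    have hiq' : i = q := by
      by_contra hne'
      have h1 : q.height ≤ 1 := Ideal.height_le_one_of_isPrincipal_of_mem_minimalPrimes _ q hqmin
      haveI : q.FiniteHeight := Ideal.finiteHeight_of_isNoetherianRing q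
      haveI : i.FiniteHeight := Ideal.finiteHeight_of_isNoetherianRing i
      have hlt := Ideal.height_strict_mono_of_isPrime (lt_of_le_of_ne hiq hne')
      have hpos := Ideal.height_strict_mono_of_isPrime (show (⊥ : Ideal A) < i from bot_lt_iff_ne_bot.mpr hi0)
      have h2 : i.height < 1 := hlt.trans_le h1
      rw [ENat.lt_one_iff_eq_zero.mp h2] at hpos
      exact not_lt_bot hpos
    exact hg (Set.mem_iUnion₂.mpr ⟨i, Finset.mem_coe.mpr ((Set.Finite.mem_toFinset _).mpr hi), hiq' ▸ hgq⟩)
  have hclosed : ∀ y ∈ closure ({x} : Set X), y ≠ x → IsClosed ({y} : Set X) := fun y hy hne => by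
    refine isClosed_of_closure_subset fun z hz => ?_
    exact key y z (specializes_iff_mem_closure.mpr hy) (specializes_iff_mem_closure.mpr hz) hne
  refine ⟨?_, hclosed⟩
  haveI := quasiSober_of_isClosed (isClosed_closure (s := ({x} : Set X)))
  refine dim_le_one_of fun a b c hab hbc hne hne' => ?_
  have hab' : a.1 ⤳ b.1 := Topology.IsInducing.subtypeVal.specializes_iff.mpr hab
  have hbc' : b.1 ⤳ c.1 := Topology.IsInducing.subtypeVal.specializes_iff.mpr hbc
  have hbx : b.1 ≠ x := fun e => by
    rw [e] at hab'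
    exact hne (Subtype.ext ((hab'.antisymm (specializes_iff_mem_closure.mpr a.2)).eq.trans e.symm))
  exact hne' (Subtype.ext (key _ _ (specializes_iff_mem_closure.mpr b.2) hbc' hbx).symm)

variable {k : Type u} [Field k]

theorem dim_le_of_genericPoint_mem (p : X ⟶ Spec (CommRingCat.of k)) [LocallyOfFiniteType p] {W : Scheme.{u}}
    (g : W ⟶ X) [LocallyOfFiniteType g] [IrreducibleSpace X] (hη : genericPoint X ∈ Set.range g.base) :
    topologicalKrullDim X ≤ topologicalKrullDim W := by
  obtain ⟨w, hw⟩ := hη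
  obtain ⟨a, b, c, ha, -, hc, hsum⟩ := EquidimFlat.fdim_comp g p w
  rw [show g w = genericPoint X from hw, EquidimFlat.fdim_eq_closure,
    show closure ({genericPoint X} : Set X) = Set.univ from genericPoint_spec X,
    FibreDim.dim_homeo (Homeomorph.Set.univ _)] at ha
  refine le_trans ?_ ((FibreDimVar.fdim_le_dim (g ≫ p) (y := w) (Set.subset_univ _)).trans
    (FibreDim.dim_homeo (Homeomorph.Set.univ _)).le)
  rw [ha, hc]; exact_mod_cast (show a ≤ c by omega)

theorem dim_eq_add_of_fibres (q : Y ⟶ Spec (CommRingCat.of k)) [LocallyOfFiniteType q] [QuasiCompact q]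
    [LocallyOfFiniteType f] [QuasiCompact f] (hdom : DenseRange f.base) (r : ℕ)
    (hfib : ∀ y : Y, (f.base ⁻¹' {y}).Nonempty → topologicalKrullDim (f.base ⁻¹' {y}) = r) :
    topologicalKrullDim X = (r : WithBot ℕ∞) + topologicalKrullDim Y := by
  haveI : IsLocallyNoetherian Y := LocallyOfFiniteType.isLocallyNoetherian q
  haveI : IsLocallyNoetherian X := LocallyOfFiniteType.isLocallyNoetherian f
  haveI : CompactSpace Y := QuasiCompact.compactSpace_of_compactSpace q
  haveI : CompactSpace X := QuasiCompact.compactSpace_of_compactSpace f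
  rw [add_comm]
  refine le_antisymm (dim_le_add_of_fibre f r fun y => ?_) ?_
  · rcases (f.base ⁻¹' {y}).eq_empty_or_nonempty with h | h
    · rw [GeomUnib.FibreDimNhds.dim_fibre_eq, h]
      haveI : IsEmpty (IrreducibleCloseds ↥(∅ : Set X)) := ⟨fun Z => isEmptyElim Z.2.nonempty.some⟩
      rw [topologicalKrullDim, Order.krullDim_eq_bot]
      exact bot_le
    · rw [GeomUnib.FibreDimNhds.dim_fibre_eq, hfib y h]
  · refine EquidimFlat.add_le_of_forall (T := Y) (fun _ => True) (fun y => FibreDim.fdim q y) r (fun y _ => ?_)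
      fun b hb => ?_
    · obtain ⟨ζ, -, hζy⟩ := FibreDimVar.exists_specializes_of_mem_closure_image f isClosed_univ
        (show y ∈ closure (f.base '' Set.univ) by rw [Set.image_univ, hdom.closure_range]; trivial)
      obtain ⟨w, hw, hwr⟩ := GeomUnib.FibreDimNhds.exists_le_fdim f (y := f.base ζ) (n := r)
        (by rw [GeomUnib.FibreDimNhds.dim_fibre_eq, hfib _ ⟨ζ, rfl⟩])
      obtain ⟨a, b, c, ha, hb, hc, hsum⟩ := EquidimFlat.fdim_comp f q w
      rw [hb, Nat.cast_le] at hwr
      have h1 : FibreDim.fdim q y ≤ (a : WithBot ℕ∞) := by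
        rw [← ha, show f w = f.base ζ from hw, EquidimFlat.fdim_eq_closure q (f.base ζ)]
        exact FibreDimVar.fdim_le_dim q
          (closure_minimal (Set.singleton_subset_iff.mpr hζy.mem_closure) isClosed_closure)
      refine (add_le_add h1 le_rfl).trans ?_
      refine le_trans (b := ((c : ℕ) : WithBot ℕ∞)) (by exact_mod_cast (show a + r ≤ c by omega)) ?_
      rw [← hc]
      exact (FibreDimVar.fdim_le_dim (f ≫ q) (Set.subset_univ _)).trans (FibreDim.dim_homeo (Homeomorph.Set.univ _)).le
    · rw [← FibreDim.dim_homeo (Homeomorph.Set.univ ↥Y)]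
      exact FibreDimVar.dim_le_of_forall q isClosed_univ _ fun y _ => hb y trivial

theorem localDim_eq_of_etale [Etale f] (u : X) :
    FlatMor.localDim X u = FlatMor.localDim Y (f.base u) := by
  haveI : LocallyQuasiFinite f := AlgSpLib.locallyQuasiFinite_of_formallyUnramified f
  refine le_antisymm (FibreDim.le_localDim fun O hO huO => ?_) (FibreDim.le_localDim fun O hO huO => ?_)
  · haveI := quasiSober_of_isOpen (hO.preimage f.continuous)
    haveI := quasiSober_of_isOpen hO
    refine (FibreDim.localDim_le (hO.preimage f.continuous) huO).trans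
      (dim_le_of_incomparable (fun x : f.base ⁻¹' O => (⟨f.base x.1, x.2⟩ : O)) ((f.continuous.comp continuous_subtype_val).subtype_mk _)
        fun a b hab he => Subtype.ext (fibre_incomparable f a.1 b.1
          (Topology.IsInducing.subtypeVal.specializes_iff.mpr hab) (congrArg Subtype.val he)))
  · have himg : IsOpen (f.base '' O) := f.isOpenMap _ hO
    haveI := quasiSober_of_isOpen hO
    haveI := quasiSober_of_isOpen himg
    refine (FibreDim.localDim_le himg ⟨u, huO, rfl⟩).trans
      (dim_le_of_surjective_generalizing (fun x : O => (⟨f.base x.1, x.1, x.2, rfl⟩ : f.base '' O))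
        (by rintro ⟨_, x, hx, rfl⟩; exact ⟨⟨x, hx⟩, rfl⟩) ?_)
    intro a b hb
    obtain ⟨x, hx, hxb⟩ := generalizing_of_isOpenMap f f.isOpenMap
      (Topology.IsInducing.subtypeVal.specializes_iff.mpr hb)
    exact ⟨⟨x, hx.mem_open hO a.2⟩, Topology.IsInducing.subtypeVal.specializes_iff.mp hx, Subtype.ext hxb⟩

end Groth.Agent.DimMaps
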