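import Groth.Agent.FibreDim.Topo
import Mathlib

/-!
# Krull dimension along maps: incomparability and lifting
-/

set_option autoImplicit false

universe u v

open CategoryTheory AlgebraicGeometry TopologicalSpace Topology

namespace Groth.Agent.DimMaps

theorem natCast_withBot_le_one {n : ℕ} (h : n ≤ 1) : (n : WithBot ℕ∞) ≤ 1 := by exact_mod_cast h

attribute [local instance] specializationOrder

section Top

variable {S : Type u} {T : Type v} [TopologicalSpace S] [TopologicalSpace T] [QuasiSober S] [T0Space S]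
  [QuasiSober T] [T0Space T]

theorem dim_le_of_incomparable (g : S → T) (hg : Continuous g)
    (hinc : ∀ a b : S, a ⤳ b → g a = g b → a = b) :
    topologicalKrullDim S ≤ topologicalKrullDim T := by
  rw [topologicalKrullDim, topologicalKrullDim, Order.krullDim_eq_of_orderIso irreducibleSetEquivPoints,
    Order.krullDim_eq_of_orderIso irreducibleSetEquivPoints]
  refine Order.krullDim_le_of_strictMono g fun a b hab => lt_of_le_of_ne
    (Specializes.map (show b ⤳ a from hab.le) hg) fun he => hab.ne ?_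
  exact (hinc b a hab.le he.symm).symm

theorem dim_le_of_surjective_specializing (g : S → T) (hs : Function.Surjective g) (hsp : SpecializingMap g) :
    topologicalKrullDim T ≤ topologicalKrullDim S := by
  rw [topologicalKrullDim, topologicalKrullDim, Order.krullDim_eq_of_orderIso irreducibleSetEquivPoints,
    Order.krullDim_eq_of_orderIso irreducibleSetEquivPoints]
  suffices H : ∀ l : LTSeries T, ∃ l' : LTSeries S, l'.length = l.length ∧ g l'.head = l.head by
    exact iSup_le fun l => by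
      obtain ⟨l', hl', -⟩ := H l
      exact hl' ▸ Order.LTSeries.length_le_krullDim l'
  intro l
  induction l using RelSeries.inductionOn with
  | singleton t => obtain ⟨s, rfl⟩ := hs t; exact ⟨RelSeries.singleton _ s, rfl, rfl⟩
  | cons p t ht hp =>
    obtain ⟨l', hl', hhead⟩ := hp
    obtain ⟨s, hs, hst⟩ := hsp (show g l'.head ⤳ t from hhead ▸ (show t < p.head from ht).le)
    have hlt : s < l'.head := lt_of_le_of_ne (show l'.head ⤳ s from hs) fun he =>
      (show t < p.head from ht).ne (by rw [← hst, he, hhead])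
    exact ⟨l'.cons s hlt, by simp [hl'], by simp [hst]⟩

theorem dim_le_of_surjective_generalizing (g : S → T) (hs : Function.Surjective g) (hge : GeneralizingMap g) :
    topologicalKrullDim T ≤ topologicalKrullDim S := by
  rw [topologicalKrullDim, topologicalKrullDim, Order.krullDim_eq_of_orderIso irreducibleSetEquivPoints,
    Order.krullDim_eq_of_orderIso irreducibleSetEquivPoints]
  suffices H : ∀ l : LTSeries T, ∃ l' : LTSeries S, l'.length = l.length ∧ g l'.last = l.last by
    exact iSup_le fun l => by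
      obtain ⟨l', hl', -⟩ := H l
      exact hl' ▸ Order.LTSeries.length_le_krullDim l'
  intro l
  induction l using RelSeries.inductionOn' with
  | singleton t => obtain ⟨s, rfl⟩ := hs t; exact ⟨RelSeries.singleton _ s, rfl, rfl⟩
  | snoc p t ht hp =>
    obtain ⟨l', hl', hlast⟩ := hp
    obtain ⟨s, hs, hst⟩ := hge (show t ⤳ g l'.last from hlast ▸ (show p.last < t from ht).le)
    have hlt : l'.last < s := lt_of_le_of_ne (show s ⤳ l'.last from hs) fun he =>
      (show p.last < t from ht).ne (by rw [← hlast, he, hst])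
    exact ⟨l'.snoc s hlt, by simp [hl'], by simp [hst]⟩

omit [TopologicalSpace T] [QuasiSober T] [T0Space T] in
theorem dim_le_one_of (h : ∀ a b c : S, a ⤳ b → b ⤳ c → a ≠ b → b ≠ c → False) : topologicalKrullDim S ≤ 1 := by
  rw [topologicalKrullDim, Order.krullDim_eq_of_orderIso irreducibleSetEquivPoints]
  refine iSup_le fun l => ?_
  by_contra hl
  have hl2 : 2 ≤ l.length := by
    by_contra hcon
    exact hl (natCast_withBot_le_one (show l.length ≤ 1 by omega))
  have h12 : l ⟨1, by omega⟩ < l ⟨2, by omega⟩ := l.strictMono (Fin.mk_lt_mk.mpr one_lt_two)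
  have h01 : l ⟨0, by omega⟩ < l ⟨1, by omega⟩ := l.strictMono (Fin.mk_lt_mk.mpr zero_lt_one)
  exact h _ _ _ h12.le h01.le h12.ne' h01.ne'

end Top

theorem incomparable_of_isDiscrete {S : Type u} {T : Type v} [TopologicalSpace S] (g : S → T)
    (h : ∀ t, IsDiscrete (g ⁻¹' {t})) (a b : S) (hab : a ⤳ b) (he : g a = g b) : a = b := by
  haveI := isDiscrete_iff_discreteTopology.mp (h (g b))
  have hsp : (⟨a, he⟩ : g ⁻¹' {g b}) ⤳ ⟨b, rfl⟩ := (Topology.IsInducing.subtypeVal.specializes_iff).mp hab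
  exact congrArg Subtype.val (specializes_iff_eq.mp hsp)

theorem quasiSober_of_isClosed {S : Type u} [TopologicalSpace S] [QuasiSober S] {Z : Set S} (hZ : IsClosed Z) :
    QuasiSober Z := hZ.isClosedEmbedding_subtypeVal.quasiSober

theorem quasiSober_of_isOpen {S : Type u} [TopologicalSpace S] [QuasiSober S] {Z : Set S} (hZ : IsOpen Z) :
    QuasiSober Z := hZ.isOpenEmbedding_subtypeVal.quasiSober

theorem generalizing_of_isOpenMap_comap {A B : Type u} [CommRing A] [CommRing B] (φ : A →+* B)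
    (h : IsOpenMap (PrimeSpectrum.comap φ)) : GeneralizingMap (PrimeSpectrum.comap φ) := by
  intro Q P hP
  have hPQ : P.asIdeal ≤ Q.asIdeal.comap φ := (PrimeSpectrum.le_iff_specializes _ _).mpr hP
  let M : Submonoid B := Q.asIdeal.primeCompl ⊔ P.asIdeal.primeCompl.map φ
  have hdis : Disjoint ((P.asIdeal.map φ : Ideal B) : Set B) (M : Set B) := by
    refine Set.disjoint_right.mpr fun m hm hmI => ?_
    obtain ⟨g, hg, _, ⟨s, hs, rfl⟩, rfl⟩ := Submonoid.mem_sup.mp hm
    have hopen := h _ (PrimeSpectrum.basicOpen g).2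
    obtain ⟨Q', hQ', hQ'P⟩ := (show P ⤳ PrimeSpectrum.comap φ Q from hP).mem_open hopen ⟨Q, hg, rfl⟩
    subst hQ'P
    have hle : (Q'.asIdeal.comap φ).map φ ≤ Q'.asIdeal := Ideal.map_comap_le
    rcases Q'.isPrime.mem_or_mem (hle hmI) with h1 | h1
    · exact hQ' h1
    · exact hs h1
  obtain ⟨J, hJ, hJP, hJM⟩ := Ideal.exists_le_prime_disjoint _ M hdis
  refine ⟨⟨J, hJ⟩, (PrimeSpectrum.le_iff_specializes _ _).mp fun b hb => by_contra fun hbQ =>
    Set.disjoint_left.mp hJM hb (Submonoid.mem_sup_left hbQ), PrimeSpectrum.ext (le_antisymm ?_ ?_)⟩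
  · exact fun a ha => by_contra fun haP =>
      Set.disjoint_left.mp hJM ha (Submonoid.mem_sup_right ⟨a, haP, rfl⟩)
  · exact Ideal.map_le_iff_le_comap.mp hJP

theorem generalizing_of_isOpenMap {X Y : Scheme.{u}} (f : X ⟶ Y) (h : IsOpenMap f.base) :
    GeneralizingMap f.base := by
  intro x y hy
  obtain ⟨_, ⟨U, hU, rfl⟩, hxU, -⟩ :=
    Y.isBasis_affineOpens.exists_subset_of_mem_open (Set.mem_univ (f.base x)) isOpen_univ
  obtain ⟨_, ⟨V, hV, rfl⟩, hxV, hVU⟩ :=
    X.isBasis_affineOpens.exists_subset_of_mem_open (show x ∈ (f ⁻¹ᵁ U : Set X) from hxU) (f ⁻¹ᵁ U).2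
  have hVU' : V ≤ f ⁻¹ᵁ U := hVU
  replace hU : IsAffineOpen U := hU
  replace hV : IsAffineOpen V := hV
  haveI := hU.isOpenImmersion_fromSpec
  haveI := hV.isOpenImmersion_fromSpec
  let φ := f.appLE U V hVU'
  have hcomm : ∀ z, hU.fromSpec ((Spec.map φ) z) = f (hV.fromSpec z) := fun z =>
    congr($(hU.SpecMap_appLE_fromSpec f hV hVU') z)
  have hopen : IsOpenMap (Spec.map φ).base := by
    intro O hO
    rw [hU.fromSpec.isOpenEmbedding.isOpen_iff_image_isOpen, ← Set.image_comp,
      show hU.fromSpec.base ∘ (Spec.map φ).base = f.base ∘ hV.fromSpec.base from funext hcomm, Set.image_comp]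
    exact h _ (hV.fromSpec.isOpenEmbedding.isOpenMap _ hO)
  have hgen := generalizing_of_isOpenMap_comap φ.hom hopen
  have hyU : y ∈ U := hy.mem_open U.2 hxU
  let Q : ↥(Spec Γ(X, V)) := hV.primeIdealOf ⟨x, hxV⟩
  let P : ↥(Spec Γ(Y, U)) := hU.primeIdealOf ⟨y, hyU⟩
  have hQ : hV.fromSpec Q = x := hV.fromSpec_primeIdealOf ⟨x, hxV⟩
  have hP : hU.fromSpec P = y := hU.fromSpec_primeIdealOf ⟨y, hyU⟩
  have hsp : P ⤳ (Spec.map φ) Q := hU.fromSpec.isOpenEmbedding.isInducing.specializes_iff.mp (by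
    rw [hcomm, hQ, hP]; exact hy)
  obtain ⟨Q', hQ', hQ'P⟩ := hgen hsp
  refine ⟨hV.fromSpec Q', hQ ▸ Specializes.map hQ' hV.fromSpec.continuous, ?_⟩
  exact (hcomm Q').symm.trans (hP ▸ congrArg hU.fromSpec hQ'P)

end Groth.Agent.DimMaps
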